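import Groth.Agent.EtAcyc.K548.SpreadPrin
import Groth.Agent.EtAcyc.K548.Compo
import Groth.Agent.EtAcyc.K548.Nbhd
import Groth.Agent.S17212

/-!
# Local asphericity at transcendental geometric points

`K146.Trans.nc_of_asphAt`: for `f` locally of finite type, the Milnor fibres of `f` at all geometric points (not
necessarily algebraic over the residue fields of the base) have no nontrivial principal covers.
-/

set_option autoImplicit false
universe u

open CategoryTheory CategoryTheory.Limits AlgebraicGeometry Opposite IsLocalRing Polynomial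

namespace K146.Trans

open K168.AsphDef K548.Nbhd K548.SpreadPrin K548.SecSplit Groth.Agent.Etrest.StrictLoc

section Field

variable {A Ω : Type u} [CommRing A] [Field Ω] (ξ : A →+* Ω)

/-- The elements of `Ω` which are algebraic over the image of `A`. -/
def algPart : Subfield Ω where
  carrier := {y | IsAlgebraic ξ.range y}
  mul_mem' := fun ha hb => IsAlgebraic.mul ha hb
  one_mem' := isAlgebraic_one
  add_mem' := fun ha hb => IsAlgebraic.add ha hb
  zero_mem' := isAlgebraic_zero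
  neg_mem' := fun ha => IsAlgebraic.neg ha
  inv_mem' := fun _ ha => IsAlgebraic.inv ha

/-- the factorization of `ξ` -/
def toAlgPart : A →+* algPart ξ :=
  ξ.codRestrict (algPart ξ).toSubring (fun a => isAlgebraic_algebraMap (R := ξ.range) (A := Ω) ⟨ξ a, a, rfl⟩)

theorem algebraMap_toAlgPart (a : A) : algebraMap (algPart ξ) Ω (toAlgPart ξ a) = ξ a := rfl

theorem algOver_toAlgPart : AlgOver (toAlgPart ξ) := by
  rintro ⟨y, hy⟩
  obtain ⟨q, hq, hy⟩ := hy
  obtain ⟨p, rfl⟩ := Polynomial.map_surjective ξ.rangeRestrict ξ.rangeRestrict_surjective q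
  refine ⟨p, fun h0 => hq ?_, ?_⟩
  · apply Polynomial.map_injective ξ.range.subtype Subtype.val_injective
    rw [Polynomial.map_map, Polynomial.map_zero]
    have h1 := congrArg (Polynomial.map (algebraMap (algPart ξ) Ω)) h0
    rw [Polynomial.map_map, Polynomial.map_zero] at h1
    exact h1
  · apply (algebraMap (algPart ξ) Ω).injective
    rw [map_zero, Polynomial.hom_eval₂]
    rw [aeval_def, eval₂_map] at hy
    exact hy

theorem isSepClosed_algPart [IsSepClosed Ω] : IsSepClosed (algPart ξ) := by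
  refine IsSepClosed.of_exists_root _ fun p hp hirr hsep => ?_
  obtain ⟨x, hx⟩ := IsSepClosed.exists_aeval_eq_zero Ω p (by
    exact (Polynomial.degree_pos_of_irreducible hirr).ne') hsep
  let L : Subalgebra ξ.range Ω := Subalgebra.algebraicClosure ξ.range Ω
  have hL : Algebra.IsAlgebraic ξ.range L := inferInstance
  let i : algPart ξ →+* L := (algPart ξ).subtype.codRestrict L.toSubring (fun z => z.2)
  have hi : Function.Injective i := fun a b hab => Subtype.ext (congrArg (fun z : L => (z : Ω)) hab)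
  have h3 : IsAlgebraic L x := by
    refine ⟨p.map i, fun h0 => hp.ne_zero (Polynomial.map_injective i hi (by rw [h0, Polynomial.map_zero])), ?_⟩
    rw [aeval_def, eval₂_map, ← hx, aeval_def]
    rfl
  refine ⟨⟨x, h3.restrictScalars ξ.range⟩, ?_⟩
  apply (algebraMap (algPart ξ) Ω).injective
  rw [map_zero, ← hx, aeval_def, Polynomial.eval, Polynomial.hom_eval₂]
  rfl

end Field

theorem exists_algPart {A Ω : Type u} [CommRing A] [Field Ω] [IsSepClosed Ω] (ξ : A →+* Ω) :
    ∃ (Ω₀ : Type u) (_ : Field Ω₀) (_ : IsSepClosed Ω₀) (_ : Algebra Ω₀ Ω) (ξ₀ : A →+* Ω₀),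
      AlgOver ξ₀ ∧ (algebraMap Ω₀ Ω).comp ξ₀ = ξ :=
  ⟨algPart ξ, inferInstance, isSepClosed_algPart ξ, inferInstance, toAlgPart ξ, algOver_toAlgPart ξ, rfl⟩

/-- **Local asphericity at transcendental geometric points.** -/
theorem nc_of_asphAt {n : ℕ} {X S : Scheme.{u}} (f : X ⟶ S) [LocallyOfFiniteType f] (x : X) (h : AsphAt n f x)
    (A B : Type u) [CommRing A] [IsLocalRing A] [CommRing B] [IsLocalRing B]
    (hA : HenselianLocalRing A) (hs : IsSepClosed (ResidueField A)) (hn : IsUnit (n : A))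
    (t : Spec (CommRingCat.of A) ⟶ S) (σ : Spec (CommRingCat.of B) ⟶ pullback f t) (hσ : IsStrictLoc σ)
    (hx : (σ ≫ pullback.fst f t) (closedPoint B) = x)
    (β : A →+* B) (hβ : IsLocalHom β) (hc : σ ≫ pullback.snd f t = spm β)
    (Ω : Type u) [Field Ω] [IsSepClosed Ω] (ξ : A →+* Ω) :
    NC n (pullback (spm β) (spm ξ)) := by
  obtain ⟨Ω₀, _, _, _, ξ₀, hξ₀, hξ⟩ := exists_algPart ξ
  intro G _ _ hG P' ρ' hP'
  -- the base change of `X_A` to `Ω`
  let XA : Scheme.{u} := pullback f t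
  let sA : XA ⟶ Spec (CommRingCat.of A) := pullback.snd f t
  let f' : pullback sA (spm ξ) ⟶ XA := pullback.fst sA (spm ξ)
  let sΩ : pullback sA (spm ξ) ⟶ Spec (CommRingCat.of Ω) := pullback.snd sA (spm ξ)
  have H1 : IsPullback f' sΩ sA (spm ξ) := IsPullback.of_hasPullback _ _
  let fC : pullback (spm β) (spm ξ) ⟶ Spec (CommRingCat.of B) := pullback.fst (spm β) (spm ξ)
  let a : pullback (spm β) (spm ξ) ⟶ pullback sA (spm ξ) :=
    pullback.lift (fC ≫ σ) (pullback.snd (spm β) (spm ξ)) (by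
      rw [Category.assoc, hc]
      exact pullback.condition)
  have ha1 : a ≫ f' = fC ≫ σ := pullback.lift_fst _ _ _
  have ha2 : a ≫ sΩ = pullback.snd (spm β) (spm ξ) := pullback.lift_snd _ _ _
  have hsq : IsPullback a fC f' σ := by
    refine IsPullback.of_right (h₁₂ := sΩ) (h₂₂ := sA) (v₁₃ := spm ξ) ?_ ha1 H1.flip
    rw [ha2, hc]
    exact (IsPullback.of_hasPullback (spm β) (spm ξ)).flip
  obtain ⟨Sy⟩ := exists_nSys hσ f' hsq
  obtain ⟨i, W, τ, e, hW, -⟩ := exists_principal Sy.lim G P' ρ' hP'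
  -- the algebraic level
  let νA : Sy.N i ⟶ Spec (CommRingCat.of A) := Sy.n i ≫ sA
  have hft : LocallyOfFiniteType νA := inferInstance
  have haff : IsAffineHom νA := inferInstance
  let g₀ : pullback νA (spm ξ₀) ⟶ Sy.N i := pullback.fst νA (spm ξ₀)
  let f₀ : pullback νA (spm ξ₀) ⟶ Spec (CommRingCat.of Ω₀) := pullback.snd νA (spm ξ₀)
  have hH0 : IsPullback g₀ f₀ νA (spm ξ₀) := IsPullback.of_hasPullback _ _
  have hspm : spm (algebraMap Ω₀ Ω) ≫ spm ξ₀ = spm ξ := by rw [← spm_comp, hξ]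
  have hbig : IsPullback (Sy.q i ≫ sΩ) (Sy.p i) (spm ξ) νA := (Sy.pb i).paste_horiz H1.flip
  let r : Sy.D.obj i ⟶ pullback νA (spm ξ₀) :=
    pullback.lift (Sy.p i) ((Sy.q i ≫ sΩ) ≫ spm (algebraMap Ω₀ Ω)) (by
      rw [Category.assoc, hspm]
      exact hbig.w.symm)
  have hr1 : r ≫ g₀ = Sy.p i := pullback.lift_fst _ _ _
  have hr2 : r ≫ f₀ = (Sy.q i ≫ sΩ) ≫ spm (algebraMap Ω₀ Ω) := pullback.lift_snd _ _ _
  have hr : IsPullback r (Sy.q i ≫ sΩ) f₀ (spm (algebraMap Ω₀ Ω)) := by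
    refine IsPullback.of_right (h₁₂ := g₀) (h₂₂ := spm ξ₀) (v₁₃ := νA) ?_ hr2 hH0
    rw [hr1, hspm]
    exact hbig.flip
  let ε : Sy.D.obj i ≅ pullback f₀ (spm (algebraMap Ω₀ Ω)) := hr.isoPullback
  have hε : ε.hom ≫ pullback.fst f₀ (spm (algebraMap Ω₀ Ω)) = r := hr.isoPullback_hom_fst
  have hG0 : IsUnit ((Nat.card G : ℕ) : Ω₀) := by
    obtain ⟨m, hm⟩ := hG
    have h1 : IsUnit ((n : ℕ) : Ω₀) := by
      have := hn.map ξ₀
      rwa [map_natCast] at this
    rw [hm, Nat.cast_mul] at h1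
    exact isUnit_of_mul_isUnit_left h1
  obtain ⟨P, ρ, hP, e', -⟩ := Groth.Agent.S17212.result Ω₀ Ω f₀ G hG0
    ((FEt.restrict ε.inv).obj W) _
    (Groth.Agent.Pi1.H408.PrincRestrict.isPrincipal_restrict ε.inv W τ hW)
  -- the cover over the algebraic Milnor fibre
  let m₀ : pullback (spm β) (spm ξ₀) ⟶ pullback νA (spm ξ₀) :=
    pullback.lift (pullback.fst (spm β) (spm ξ₀) ≫ Sy.l i) (pullback.snd (spm β) (spm ξ₀)) (by
      rw [Category.assoc, ← Category.assoc (Sy.l i), Sy.ln, hc]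
      exact pullback.condition)
  obtain ⟨s₀⟩ := h A B hA hs hn t σ hσ hx β hβ hc Ω₀ ξ₀ hξ₀ G hG _ _
    (Groth.Agent.Pi1.H408.PrincRestrict.isPrincipal_restrict m₀ P ρ hP)
  let w : pullback (spm β) (spm ξ) ⟶ pullback (spm β) (spm ξ₀) :=
    pullback.lift (pullback.fst (spm β) (spm ξ)) (pullback.snd (spm β) (spm ξ) ≫ spm (algebraMap Ω₀ Ω)) (by
      rw [Category.assoc, hspm]
      exact pullback.condition)
  have hw : w ≫ m₀ = Sy.π.app i ≫ r := by
    apply pullback.hom_ext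
    · rw [Category.assoc, Category.assoc]
      simp only [m₀, r, w, pullback.lift_fst, pullback.lift_fst_assoc]
      exact (Sy.πp i).symm
    · rw [Category.assoc, Category.assoc]
      simp only [m₀, r, w, pullback.lift_snd]
      rw [← Category.assoc, ← Category.assoc, Sy.πq, ha2]
  obtain ⟨i1⟩ := nonempty_iso_comp w m₀ (w ≫ m₀) rfl P
  obtain ⟨i2⟩ := nonempty_iso_comp (Sy.π.app i ≫ ε.hom) (pullback.fst f₀ (spm (algebraMap Ω₀ Ω))) (w ≫ m₀)
    (by rw [Category.assoc, hε, hw]) P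
  obtain ⟨i3⟩ := nonempty_iso_comp (Sy.π.app i ≫ ε.hom) ε.inv (Sy.π.app i)
    (by rw [Category.assoc, ε.hom_inv_id, Category.comp_id]) W
  exact sec_of_iso (i1 ≪≫ i2.symm ≪≫ (FEt.restrict (Sy.π.app i ≫ ε.hom)).mapIso e' ≪≫ i3 ≪≫ e)
    (SGA1t.secPull w _ s₀)

end K146.Trans
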